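import Groth.Agent.Ega2.H275.FrameNorm
import Groth.Agent.PerfB.PushFLF
import Groth.Agent.Dcoh.LocalFree
import Groth.Agent.Smoothlim.LineSec
import Groth.Prelude.Def_Mor2
import Groth.Prelude.Def_Fitting

/-!
# The norm of a finite locally free morphism of degree `d`

* `finrank_eq`: a frame of `π_* O_X` of rank `n` over `W` has `n = π.finrank y` for `y ∈ W`.
* `exists_fr_deg`: `π` finite locally free of degree `d` has local frames of rank `d`.
* `normOfFrames`: the glued norm, a `Nrm.NormOfDegree π d`.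
-/

set_option autoImplicit false
universe u

open CategoryTheory CategoryTheory.Limits AlgebraicGeometry TopologicalSpace

namespace K471.NormLF

open Groth.Agent.Fdesc.LocGen Groth.Agent.Flat2H.FamExt Groth.Agent.Ega2.H275.FrameNorm

variable {X Y : Scheme.{u}} {π : X ⟶ Y}

/-- the rank over an affine open, in terms of sections. -/
theorem finrank_eq_rankAtStalk (π : X ⟶ Y) [IsFinite π] [Flat π] {V : Y.Opens} (hV : IsAffineOpen V)
    (p : Spec Γ(Y, V)) :
    letI := alg π V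
    π.finrank (hV.fromSpec p) = Module.rankAtStalk (R := Γ(Y, V)) Γ(X, π ⁻¹ᵁ V) p := by
  let _ := alg π V
  have hW : IsAffineOpen (π ⁻¹ᵁ V) := hV.preimage π
  have sq : IsPullback hW.fromSpec (Spec.map (π.app V)) π hV.fromSpec := by
    refine IsPullback.flip ?_
    apply IsOpenImmersion.isPullback
    · have := (IsAffineOpen.SpecMap_appLE_fromSpec π hV hW le_rfl).symm
      rwa [Scheme.Hom.appLE_eq_app] at this
    · rw [IsAffineOpen.opensRange_fromSpec, IsAffineOpen.opensRange_fromSpec]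
  rw [← Scheme.Hom.finrank_of_isPullback _ _ _ _ sq p]
  have h1 : (π.app V).hom.Finite := IsFinite.finite_app π V hV
  have h2 : (π.app V).hom.Flat := by
    have := π.flat_appLE hV hW le_rfl
    rwa [Scheme.Hom.appLE_eq_app] at this
  rw [Scheme.Hom.finrank_SpecMap_eq_finrank h1 h2]
  rfl

theorem finrank_eq [IsFinite π] [Flat π] {W : Y.Opens} {n : ℕ} (fr : Fr π W n) {y : Y}
    (hy : y ∈ W) : π.finrank y = n := by
  obtain ⟨V, hV, hyV, hVW⟩ := exists_isAffineOpen_mem_and_subset (x := y) (U := W) hy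
  obtain ⟨p, rfl⟩ : y ∈ Set.range hV.fromSpec := by
    rw [hV.range_fromSpec]; exact hyV
  rw [finrank_eq_rankAtStalk π hV p]
  let _ := alg π V
  let b := fr.basis hVW
  have : Nontrivial Γ(Y, V) := by
    have : Nonempty V := ⟨⟨_, hyV⟩⟩
    infer_instance
  have h3 : Module.Free Γ(Y, V) Γ(X, π ⁻¹ᵁ V) := Module.Free.of_basis b
  rw [Module.rankAtStalk_eq_finrank_of_free]
  exact (Module.finrank_eq_card_basis b).trans (Fintype.card_fin n)

theorem exists_fr_deg {d : ℕ} (hπ : Mor2.IsFinLocFreeOfDeg d π) (y : Y) :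
    ∃ W : Y.Opens, y ∈ W ∧ Nonempty (Fr π W d) := by
  obtain ⟨⟨h1, h2, h3⟩, hd⟩ := hπ
  have hfree : FlatMod.IsFinLocFree ((Coh.push π).obj (Coh.structureModule X)) :=
    Groth.Agent.PerfB.PushFLF.isFinLocFree_pushforward (f := π)
      Groth.Agent.Dcoh.LocalFree.isFinLocFree_structureModule
  obtain ⟨W, n, hW, ⟨fr⟩⟩ := exists_fr hfree y
  have := finrank_eq fr hW
  rw [hd] at this
  subst this
  exact ⟨W, hW, ⟨fr⟩⟩

section Glue

variable {W : Y → Y.Opens} (hW : ∀ y, y ∈ W y)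

/-- `t` is the glued norm of `s`. -/
def IsN (π : X ⟶ Y) (W : Y → Y.Opens) {U : Y.Opens} (s : Γ(X, π ⁻¹ᵁ U)) (t : Γ(Y, U)) : Prop :=
  ∀ y, ores (inf_le_left : U ⊓ W y ≤ U) t =
    nm π (U ⊓ W y) (ores (pre π (inf_le_left : U ⊓ W y ≤ U)) s)

include hW in
theorem IsN.unique {U : Y.Opens} {s : Γ(X, π ⁻¹ᵁ U)} {t t' : Γ(Y, U)} (h : IsN π W s t)
    (h' : IsN π W s t') : t = t' :=
  Groth.Agent.Smoothlim.LineSec.sepO (fun y => U ⊓ W y) (fun _ => inf_le_left)
    (fun y hy => Opens.mem_iSup.2 ⟨y, ⟨hy, hW y⟩⟩) fun y => (h y).trans (h' y).symm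

include hW in
theorem exists_isN {d : ℕ} (fr : ∀ y, Fr π (W y) d) {U : Y.Opens} (s : Γ(X, π ⁻¹ᵁ U)) :
    ∃ t, IsN π W s t := by
  refine Groth.Agent.Smoothlim.LineSec.glueO (fun y => U ⊓ W y) (fun _ => inf_le_left)
    (fun y hy => Opens.mem_iSup.2 ⟨y, ⟨hy, hW y⟩⟩)
    (fun y => nm π (U ⊓ W y) (ores (pre π (inf_le_left : U ⊓ W y ≤ U)) s)) fun y z => ?_
  change ores inf_le_left _ = ores inf_le_right _
  rw [← (fr y).nm_ores inf_le_right inf_le_left, ← (fr z).nm_ores inf_le_right inf_le_right,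
    ores_ores, ores_ores]

/-- below a frame, the glued norm is the norm. -/
theorem IsN.ores_eq {d : ℕ} (fr : ∀ y, Fr π (W y) d) {U : Y.Opens} {s : Γ(X, π ⁻¹ᵁ U)}
    {t : Γ(Y, U)} (h : IsN π W s t) (y : Y) {V : Y.Opens} (hVU : V ≤ U) (hV : V ≤ W y) :
    ores hVU t = nm π V (ores (pre π hVU) s) := by
  rw [← ores_ores (inf_le_left : U ⊓ W y ≤ U) (le_inf hVU hV), h y,
    ← (fr y).nm_ores inf_le_right, ores_ores]

theorem IsN.res {d : ℕ} (fr : ∀ y, Fr π (W y) d) {U : Y.Opens} {s : Γ(X, π ⁻¹ᵁ U)}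
    {t : Γ(Y, U)} (h : IsN π W s t) {V : Y.Opens} (hVU : V ≤ U) :
    IsN π W (ores (pre π hVU) s) (ores hVU t) := by
  intro y
  rw [ores_ores, ores_ores]
  exact h.ores_eq fr y _ inf_le_right

/-- The glued norm. -/
noncomputable def norm {d : ℕ} (fr : ∀ y, Fr π (W y) d) (U : Y.Opens) :
    Γ(X, π ⁻¹ᵁ U) →* Γ(Y, U) where
  toFun s := (exists_isN hW fr s).choose
  map_one' := by
    apply IsN.unique hW (exists_isN hW fr _).choose_spec
    intro y
    rw [map_one, map_one, map_one]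
  map_mul' s s' := by
    apply IsN.unique hW (exists_isN hW fr _).choose_spec
    intro y
    rw [map_mul, map_mul, map_mul, (exists_isN hW fr s).choose_spec y,
      (exists_isN hW fr s').choose_spec y]

theorem isN_norm {d : ℕ} (fr : ∀ y, Fr π (W y) d) (U : Y.Opens) (s : Γ(X, π ⁻¹ᵁ U)) :
    IsN π W s (norm hW fr U s) :=
  (exists_isN hW fr s).choose_spec

/-- The norm of degree `d` given by local frames of rank `d`. -/
noncomputable def normOfFrames {d : ℕ} (hd : 1 ≤ d) (fr : ∀ y, Fr π (W y) d) :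
    Nrm.NormOfDegree π d where
  one_le := hd
  norm U := norm hW fr U
  norm_res {U V} i s := by
    apply IsN.unique hW ((isN_norm hW fr U s).res fr i.le) 
    exact isN_norm hW fr V _
  norm_app U g := by
    apply IsN.unique hW (isN_norm hW fr U _)
    intro y
    rw [map_pow, ← (fr y).nm_app inf_le_right]
    congr 1
    exact (app_ores π inf_le_left g)
  norm_mem U s x hx hs := by
    by_contra hcon
    have hu : π x ∈ Y.basicOpen (norm hW fr U s) := by
      rw [Scheme.mem_basicOpen _ _ _ hx]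
      exact not_not.1 hcon
    let V : Y.Opens := (U ⊓ W (π x)) ⊓ Y.basicOpen (norm hW fr U s)
    have hV : π x ∈ V := ⟨⟨hx, hW _⟩, hu⟩
    have hVU : V ≤ U := inf_le_left.trans inf_le_left
    have h1 : IsUnit (ores hVU (norm hW fr U s)) := isUnit_res_basicOpen _ _ inf_le_right
    rw [(isN_norm hW fr U s).ores_eq fr (π x) hVU (inf_le_left.trans inf_le_right),
      (fr (π x)).isUnit_nm_iff (inf_le_left.trans inf_le_right)] at h1
    have h2 := le_basicOpen_of_isUnit s (pre π hVU) h1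
    have h3 : x ∈ X.basicOpen s := h2 hV
    rw [Scheme.mem_basicOpen (X := X) (U := π ⁻¹ᵁ U) s x hx] at h3
    exact hs h3

end Glue

theorem hasNorm {d : ℕ} (hd : 1 ≤ d) (hπ : Mor2.IsFinLocFreeOfDeg d π) : Nrm.HasNorm π d := by
  choose W hW fr using exists_fr_deg hπ
  exact ⟨normOfFrames hW hd fun y => (fr y).some⟩

end K471.NormLF
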