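import Groth.Agent.Fdesc.AssPoints
import Groth.Agent.Divis.WeakAss

/-!
# Primes of a local ring of a scheme and generizations of the point

* `exists_prime_of_specializes`, `exists_point_of_prime`: primes of `O_{X,x}` and points `y ⤳ x`,
  through the ring of sections over an affine open.
* `isAssPoint_iff`: on a locally Noetherian scheme, `y ⤳ x` is associated to `F` iff its prime of
  `O_{X,x}` is an associated prime of `F_x`.
-/

set_option autoImplicit false
universe u

open CategoryTheory CategoryTheory.Limits AlgebraicGeometry Opposite TopologicalSpace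

namespace K471.StalkPrimes

open Groth.Agent.Fdesc.QCohStalk Groth.Agent.Fdesc.AssPoints

variable {X : Scheme.{u}} {U : X.Opens} (hU : IsAffineOpen U) {x : X} (hx : x ∈ U)

/-- the prime of `Γ(X, U)` below a prime of the local ring at `x` -/
noncomputable abbrev below (Q : PrimeSpectrum (X.presheaf.stalk x)) : PrimeSpectrum Γ(X, U) :=
  PrimeSpectrum.comap (X.presheaf.germ U x hx).hom Q

include hU in
theorem below_injective : Function.Injective (below (X := X) (U := U) (x := x) hx) := by
  let : Algebra Γ(X, U) (X.presheaf.stalk x) :=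
    TopCat.Presheaf.algebra_section_stalk X.presheaf ⟨x, hx⟩
  have := hU.isLocalization_stalk ⟨x, hx⟩
  exact PrimeSpectrum.localization_comap_injective (X.presheaf.stalk x)
    (hU.primeIdealOf ⟨x, hx⟩).asIdeal.primeCompl

theorem below_closedPoint :
    below hx (IsLocalRing.closedPoint (X.presheaf.stalk x)) = hU.primeIdealOf ⟨x, hx⟩ := by
  apply PrimeSpectrum.ext
  exact (primeIdealOf_eq_comap hU x hx).symm

include hU in
theorem below_le (Q : PrimeSpectrum (X.presheaf.stalk x)) :
    below hx Q ≤ hU.primeIdealOf ⟨x, hx⟩ := by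
  rw [← below_closedPoint hU hx]
  exact Ideal.comap_mono (IsLocalRing.le_maximalIdeal Q.isPrime.ne_top)

theorem exists_below_eq (q : PrimeSpectrum Γ(X, U)) (hq : q ≤ hU.primeIdealOf ⟨x, hx⟩) :
    ∃ Q : PrimeSpectrum (X.presheaf.stalk x), below hx Q = q := by
  let : Algebra Γ(X, U) (X.presheaf.stalk x) :=
    TopCat.Presheaf.algebra_section_stalk X.presheaf ⟨x, hx⟩
  have := hU.isLocalization_stalk ⟨x, hx⟩
  have h := PrimeSpectrum.localization_comap_range (X.presheaf.stalk x)
    (hU.primeIdealOf ⟨x, hx⟩).asIdeal.primeCompl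
  have h2 : q ∈ Set.range (PrimeSpectrum.comap (algebraMap Γ(X, U) (X.presheaf.stalk x))) := by
    rw [h]
    exact (Set.disjoint_compl_left_iff_subset.mpr hq)
  exact h2

theorem exists_prime_of_specializes {y : X} (hyx : y ⤳ x) :
    ∃ (hy : y ∈ U) (Q : PrimeSpectrum (X.presheaf.stalk x)),
      below hx Q = hU.primeIdealOf ⟨y, hy⟩ := by
  have hy : y ∈ U := hyx.mem_open U.isOpen hx
  exact ⟨hy, exists_below_eq hU hx _ ((specializes_iff hU y x hy hx).mp hyx)⟩

theorem exists_point_of_prime (Q : PrimeSpectrum (X.presheaf.stalk x)) :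
    ∃ (y : X) (hy : y ∈ U), y ⤳ x ∧ below hx Q = hU.primeIdealOf ⟨y, hy⟩ := by
  obtain ⟨y, hy, h⟩ := Groth.Agent.Divis.WeakAss.exists_point hU (below hx Q)
  refine ⟨y, hy, ?_, h.symm⟩
  rw [specializes_iff hU y x hy hx]
  change hU.primeIdealOf ⟨y, hy⟩ ≤ hU.primeIdealOf ⟨x, hx⟩
  rw [h]
  exact below_le hU hx Q

theorem eq_iff_of_below {y : X} (hy : y ∈ U) (Q : PrimeSpectrum (X.presheaf.stalk x))
    (h : below hx Q = hU.primeIdealOf ⟨y, hy⟩) :
    y = x ↔ Q = IsLocalRing.closedPoint (X.presheaf.stalk x) := by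
  constructor
  · rintro rfl
    apply below_injective hU hx
    rw [h, below_closedPoint hU hx]
  · rintro rfl
    rw [below_closedPoint hU hx] at h
    have := congrArg hU.fromSpec h
    rw [hU.fromSpec_primeIdealOf, hU.fromSpec_primeIdealOf] at this
    exact this.symm

/-- A generization `y` of `x` is associated to `F` iff its prime in the local ring at `x` is an
associated prime of the stalk. -/
theorem isAssPoint_iff [IsLocallyNoetherian X] {F : X.Modules} (hF : Coh.IsQCoh F) {y : X}
    (hy : y ∈ U) (Q : PrimeSpectrum (X.presheaf.stalk x))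
    (h : below hx Q = hU.primeIdealOf ⟨y, hy⟩) :
    Curv2.IsAssPoint F y ↔ Q.asIdeal ∈ associatedPrimes (X.presheaf.stalk x) (F.presheaf.stalk x) := by
  have h1 : Curv2.IsAssPoint F y ↔
      (hU.primeIdealOf ⟨y, hy⟩).asIdeal ∈ associatedPrimes Γ(X, U) Γ(F, U) :=
    mem_Ass_iff F hU hF y hy
  rw [h1, ← h]
  let := stalkModule F x hx
  let : Algebra Γ(X, U) (X.presheaf.stalk x) :=
    TopCat.Presheaf.algebra_section_stalk X.presheaf ⟨x, hx⟩
  have : IsNoetherianRing Γ(X, U) := IsLocallyNoetherian.component_noetherian ⟨U, hU⟩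
  have : IsScalarTower Γ(X, U) (X.presheaf.stalk x) (F.presheaf.stalk x) :=
    IsScalarTower.of_compHom _ _ _
  have : IsLocalization.AtPrime (X.presheaf.stalk x) (hU.primeIdealOf ⟨x, hx⟩).asIdeal :=
    hU.isLocalization_stalk ⟨x, hx⟩
  have : IsLocalizedModule (hU.primeIdealOf ⟨x, hx⟩).asIdeal.primeCompl (germₗ F x hx) :=
    isLocalizedModule_germ F hU hF x hx
  have h := Module.associatedPrimes.preimage_comap_associatedPrimes_eq_associatedPrimes_of_isLocalizedModule
    (hU.primeIdealOf ⟨x, hx⟩).asIdeal.primeCompl (X.presheaf.stalk x) (germₗ F x hx)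
  rw [← h]
  rfl

end K471.StalkPrimes
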