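import Groth.Agent.Divis.WeakAss
import Groth.Agent.Fdesc.StructMod

/-!
# Generic points of a scheme and weakly associated points of the structure sheaf
-/

set_option autoImplicit false
universe u

open CategoryTheory CategoryTheory.Limits AlgebraicGeometry Opposite TopologicalSpace

namespace K471.GenPts

open Groth.Agent.Divis.WeakAss Groth.Agent.Fdesc.StructMod

/-- The closure of a point without proper generizations is an irreducible component. -/
theorem closure_mem_irreducibleComponents {T : Type*} [TopologicalSpace T] [QuasiSober T] [T0Space T]
    {t : T} (ht : ∀ y, y ⤳ t → y = t) : closure {t} ∈ irreducibleComponents T := by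
  rw [irreducibleComponents_eq_maximals_closed]
  refine ⟨⟨isClosed_closure, isIrreducible_singleton.closure⟩, fun Z hZ hle => ?_⟩
  obtain ⟨η, hη⟩ := QuasiSober.sober hZ.2 hZ.1
  have h1 : η ⤳ t := by
    rw [specializes_iff_mem_closure, hη.def]
    exact hle (subset_closure rfl)
  rw [← ht η h1, hη.def]

/-- Every point has a generization without proper generizations. -/
theorem exists_generic {T : Type*} [TopologicalSpace T] [QuasiSober T] [T0Space T] (y : T) :
    ∃ η : T, η ⤳ y ∧ ∀ z, z ⤳ η → z = η := by
  obtain ⟨η, hη⟩ := QuasiSober.sober (isIrreducible_irreducibleComponent (x := y))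
    isClosed_irreducibleComponent
  refine ⟨η, ?_, fun z hz => ?_⟩
  · rw [specializes_iff_mem_closure, hη.def]
    exact mem_irreducibleComponent
  · have h1 : irreducibleComponent y ≤ closure {z} := by
      rw [← hη.def]
      exact specializes_iff_closure_subset.mp hz
    have h2 := eq_irreducibleComponent (isIrreducible_singleton (x := z)).closure.2 h1
    refine (hz.antisymm ?_).eq
    rw [specializes_iff_mem_closure, hη.def, ← h2]
    exact subset_closure rfl

theorem finite_generic {T : Type*} [TopologicalSpace T] [QuasiSober T] [T0Space T]
    (h : (irreducibleComponents T).Finite) : {t : T | ∀ y, y ⤳ t → y = t}.Finite := by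
  refine Set.Finite.of_injOn (f := fun t => closure {t}) (t := irreducibleComponents T)
    (fun t ht => closure_mem_irreducibleComponents ht) ?_ h
  intro a _ b _ hab
  have hab' : closure {a} = closure {b} := hab
  exact ((specializes_iff_closure_subset.mpr hab'.ge).antisymm
    (specializes_iff_closure_subset.mpr hab'.le)).eq

variable {X : Scheme.{u}}

theorem mem_support_structureModule (x : X) : x ∈ CohB1.support (Coh.structureModule X) := by
  intro h
  have := (stalkEquiv x).toEquiv.subsingleton
  exact not_subsingleton (X.presheaf.stalk x) this

/-- Generic points are weakly associated to the structure sheaf. -/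
theorem isWeakAssPoint_of_generic {x : X} (hx : ∀ y, y ⤳ x → y = x) :
    Curv2.IsWeakAssPoint (Coh.structureModule X) x :=
  isWeakAssPoint_of_maximal_support (isQCoh_structureModule X) x (mem_support_structureModule x)
    fun y _ h => hx y h

theorem generic_open {U : X.Opens} {t : U} (h : ∀ y : X, y ⤳ t.1 → y = t.1) (y : U) (hy : y ⤳ t) :
    y = t :=
  Subtype.ext (h y.1 (hy.map U.isOpenEmbedding.continuous))

end K471.GenPts
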