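import Groth.Agent.SDiv.K471.MeroBasic
import Mathlib.AlgebraicGeometry.Morphisms.QuasiCompact
import Mathlib.RingTheory.Ideal.AssociatedPrime.Finiteness

/-!
# Sections of `K_X` over quasi-compact and over affine opens

* `exists_pow_mul_eq_zero`: a section of `K_X` over a quasi-compact open vanishing on `D(h)` is killed
  by a power of `h`.
* `exists_mul_eq_toK`: over an affine open of a locally Noetherian scheme every section of `K_X`
  is a fraction `a / b` with `b` a nonzerodivisor.
-/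

set_option autoImplicit false
universe u

open CategoryTheory CategoryTheory.Limits AlgebraicGeometry Opposite TopologicalSpace

namespace K471.MeroAffine

open K471.MeroBasic

variable {X : Scheme.{u}}

theorem map_comp' {U V W : X.Opens} (h : V ≤ U) (h' : W ≤ V) (f : Γ(Mero.kmod X, U)) :
    (Mero.kmod X).presheaf.map (homOfLE h').op ((Mero.kmod X).presheaf.map (homOfLE h).op f) =
      (Mero.kmod X).presheaf.map (homOfLE (h'.trans h)).op f := rfl

/-- A section of `K_X` over a quasi-compact open vanishing on `D(h)` is killed by a power of `h`. -/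
theorem exists_pow_mul_eq_zero {U : X.Opens} (hU : IsCompact (U : Set X)) (h : Γ(X, U))
    (f : Γ(Mero.kmod X, U))
    (hf : (Mero.kmod X).presheaf.map (homOfLE (X.basicOpen_le h)).op f = 0) :
    ∃ n : ℕ, Mero.toK X U h ^ n * f = 0 := by
  classical
  have key : ∀ x : U, ∃ (V : X.Opens) (hV : V ≤ U) (_ : x.1 ∈ V) (n : ℕ),
      (Mero.kmod X).presheaf.map (homOfLE hV).op (Mero.toK X U h ^ n * f) = 0 := by
    intro x
    obtain ⟨V, hVU, hxV, hV, a, b, hb, hfab⟩ := exists_frac f x.1 x.2
    have h1 : X.presheaf.map (homOfLE (X.basicOpen_le (X.presheaf.map (homOfLE hVU).op h))).op a = 0 := by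
      apply toK_injective
      rw [← map_toK, ← hfab, map_mul', map_zero]
      have hle : X.basicOpen (X.presheaf.map (homOfLE hVU).op h) ≤ X.basicOpen h := by
        rw [Scheme.basicOpen_res]; exact inf_le_right
      have h2 := congrArg ((Mero.kmod X).presheaf.map (homOfLE hle).op) hf
      rw [map_comp', map_zero] at h2
      have h3 : (Mero.kmod X).presheaf.map
          (homOfLE (X.basicOpen_le (X.presheaf.map (homOfLE hVU).op h))).op
          ((Mero.kmod X).presheaf.map (homOfLE hVU).op f) = 0 := h2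
      rw [h3, mul_zero]
    obtain ⟨n, hn⟩ := exists_pow_mul_eq_zero_of_res_basicOpen_eq_zero_of_isAffineOpen X hV a
      (X.presheaf.map (homOfLE hVU).op h) h1
    refine ⟨V, hVU, hxV, n, ?_⟩
    have hbu := isUnit_toK hb
    have h4 : Mero.toK X V b *
        (Mero.kmod X).presheaf.map (homOfLE hVU).op (Mero.toK X U h ^ n * f) = 0 := by
      have h5 : (Mero.kmod X).presheaf.map (homOfLE hVU).op (Mero.toK X U h ^ n * f) =
          Mero.toK X V (X.presheaf.map (homOfLE hVU).op h) ^ n *
            (Mero.kmod X).presheaf.map (homOfLE hVU).op f := by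
        rw [map_mul', ← map_toK]; rfl
      rw [h5, mul_left_comm, hfab, ← map_pow, ← map_mul, hn, map_zero]
    exact (hbu.mul_right_eq_zero).mp h4
  choose V hVU hxV n hn using key
  obtain ⟨t, ht⟩ := hU.elim_finite_subcover (fun x : U => (V x : Set X)) (fun x => (V x).isOpen)
    (fun x hx => Set.mem_iUnion.mpr ⟨⟨x, hx⟩, hxV ⟨x, hx⟩⟩)
  refine ⟨∑ x ∈ t, n x, ?_⟩
  refine kmod_eq_zero_of_cover _ fun x hx => ?_
  obtain ⟨y, hy⟩ := Set.mem_iUnion.mp (ht hx)
  obtain ⟨hyt, hxy⟩ := Set.mem_iUnion.mp hy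
  refine ⟨V y, hVU y, hxy, ?_⟩
  rw [← Finset.add_sum_erase t n hyt, pow_add, mul_comm (Mero.toK X U h ^ n y), mul_assoc, map_mul',
    hn y, mul_zero]

section Noetherian

variable [IsLocallyNoetherian X] {U : X.Opens} (hU : IsAffineOpen U)

include hU in
/-- Over an affine open of a locally Noetherian scheme every section of `K_X` is a fraction. -/
theorem exists_mul_eq_toK (f : Γ(Mero.kmod X, U)) :
    ∃ a b : Γ(X, U), b ∈ nonZeroDivisors Γ(X, U) ∧ Mero.toK X U b * f = Mero.toK X U a := by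
  classical
  have hnoeth : IsNoetherianRing Γ(X, U) := IsLocallyNoetherian.component_noetherian ⟨U, hU⟩
  -- the ideal of denominators
  let I : Ideal Γ(X, U) :=
    { carrier := {b | ∃ a : Γ(X, U), Mero.toK X U b * f = Mero.toK X U a}
      zero_mem' := ⟨0, by rw [map_zero, zero_mul]⟩
      add_mem' := by
        rintro b b' ⟨a, ha⟩ ⟨a', ha'⟩
        exact ⟨a + a', by rw [map_add, add_mul, ha, ha', map_add]⟩
      smul_mem' := by
        rintro c b ⟨a, ha⟩
        exact ⟨c * a, by rw [smul_eq_mul, map_mul, mul_assoc, ha, map_mul]⟩ }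
  suffices h : ∃ b ∈ I, b ∈ nonZeroDivisors Γ(X, U) by
    obtain ⟨b, ⟨a, ha⟩, hb⟩ := h
    exact ⟨a, b, hb, ha⟩
  by_contra hcon
  push Not at hcon
  have hsub : (I : Set Γ(X, U)) ⊆ ⋃ P ∈ associatedPrimes Γ(X, U) Γ(X, U), (P : Set Γ(X, U)) := by
    rw [biUnion_associatedPrimes_eq_compl_nonZeroDivisors]
    exact fun b hb => hcon b hb
  obtain ⟨P, hP, hle⟩ := (Ideal.subset_union_prime_finite
    (associatedPrimes.finite Γ(X, U) Γ(X, U)) ⊥ ⊥
      (fun P hP _ _ => IsAssociatedPrime.isPrime hP)).mp hsub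
  have hPp : P.IsPrime := IsAssociatedPrime.isPrime hP
  -- the point of `P`
  obtain ⟨x, hxU, hx⟩ := Groth.Agent.Fdesc.AssPoints.exists_primeIdealOf_eq hU P
  obtain ⟨V, hVU, hxV, hV, a, b, hb, hfab⟩ := exists_frac f x hxU
  -- shrink to a basic open of `U`
  obtain ⟨g, hgV, hxg⟩ := hU.exists_basicOpen_le ⟨x, hxV⟩ hxU
  have hgU : X.basicOpen g ≤ U := X.basicOpen_le g
  -- clear denominators
  have hloc := hU.isLocalization_basicOpen g
  obtain ⟨⟨β, ⟨_, m, rfl⟩⟩, hβ⟩ := IsLocalization.surj (Submonoid.powers g)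
    (X.presheaf.map (homOfLE hgV).op b)
  obtain ⟨⟨α, ⟨_, l, rfl⟩⟩, hα⟩ := IsLocalization.surj (Submonoid.powers g)
    (X.presheaf.map (homOfLE hgV).op a)
  change X.presheaf.map (homOfLE hgV).op b * X.presheaf.map (homOfLE hgU).op (g ^ m) =
    X.presheaf.map (homOfLE hgU).op β at hβ
  change X.presheaf.map (homOfLE hgV).op a * X.presheaf.map (homOfLE hgU).op (g ^ l) =
    X.presheaf.map (homOfLE hgU).op α at hα
  -- `(g ^ l β) f - g ^ m α` vanishes on `D(g)`
  have h1 : (Mero.kmod X).presheaf.map (homOfLE hgU).op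
      (Mero.toK X U (g ^ l * β) * f - Mero.toK X U (g ^ m * α)) = 0 := by
    rw [map_sub, map_mul', map_toK, map_toK, map_mul (X.presheaf.map (homOfLE hgU).op).hom (g ^ l),
      map_mul (X.presheaf.map (homOfLE hgU).op).hom (g ^ m)]
    change Mero.toK X _ (X.presheaf.map (homOfLE hgU).op (g ^ l) * X.presheaf.map (homOfLE hgU).op β) * _
      - Mero.toK X _ (X.presheaf.map (homOfLE hgU).op (g ^ m) * X.presheaf.map (homOfLE hgU).op α) = 0
    rw [← hα, ← hβ]
    have h2 := congrArg ((Mero.kmod X).presheaf.map (homOfLE hgV).op) hfab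
    rw [map_mul', map_toK, map_toK, map_comp'] at h2
    simp only [map_mul]
    have h3 : Mero.toK X (X.basicOpen g) (X.presheaf.map (homOfLE hgV).op a) =
        Mero.toK X (X.basicOpen g) (X.presheaf.map (homOfLE hgV).op b) *
          (Mero.kmod X).presheaf.map (homOfLE hgU).op f := h2.symm
    rw [h3]
    ring
  obtain ⟨n, hn⟩ := exists_pow_mul_eq_zero hU.isCompact g _ h1
  have hmem : g ^ n * (g ^ l * β) ∈ I := by
    refine ⟨g ^ n * (g ^ m * α), ?_⟩
    rw [mul_sub, sub_eq_zero] at hn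
    rw [map_mul, map_pow, mul_assoc, hn, map_mul _ (g ^ n), map_pow]
  have hmemP := hle hmem
  have hgP : g ∉ P := by
    rw [← hx]
    exact (Groth.Agent.Fdesc.QCohStalk.mem_basicOpen_iff hU x hxU g).mp hxg
  have hβP : β ∈ P := by
    rcases hPp.mem_or_mem hmemP with h | h
    · exact absurd (hPp.mem_of_pow_mem n h) hgP
    · rcases hPp.mem_or_mem h with h | h
      · exact absurd (hPp.mem_of_pow_mem l h) hgP
      · exact h
  -- `β` has nonzerodivisor germ at `x`
  have hβreg : X.presheaf.germ U x hxU β ∈ nonZeroDivisors (X.presheaf.stalk x) := by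
    have h4 : X.presheaf.germ U x hxU β = X.presheaf.germ V x hxV b * X.presheaf.germ U x hxU g ^ m := by
      rw [← TopCat.Presheaf.germ_res_apply X.presheaf (homOfLE hgU) x hxg, ← hβ, map_mul,
        TopCat.Presheaf.germ_res_apply, TopCat.Presheaf.germ_res_apply, map_pow]
    rw [h4]
    refine mul_mem (hb ⟨x, hxV⟩) (pow_mem ?_ m)
    exact IsUnit.mem_nonZeroDivisors ((X.mem_basicOpen g x hxU).mp hxg)
  -- but `P` is associated
  obtain ⟨-, z, hz⟩ := isAssociatedPrime_iff.mp hP
  have hPann : ∀ c : Γ(X, U), c ∈ P ↔ c * z = 0 := fun c => by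
    rw [hz, Submodule.mem_colon_singleton, Submodule.mem_bot, smul_eq_mul]
  have hgz : X.presheaf.germ U x hxU z = 0 := by
    apply mem_nonZeroDivisors_iff_left.mp hβreg
    rw [← map_mul, (hPann β).mp hβP, map_zero]
  let : Algebra Γ(X, U) (X.presheaf.stalk x) :=
    TopCat.Presheaf.algebra_section_stalk X.presheaf ⟨x, hxU⟩
  have hloc' := hU.isLocalization_stalk ⟨x, hxU⟩
  obtain ⟨c, hc⟩ := (IsLocalization.map_eq_zero_iff
    (hU.primeIdealOf ⟨x, hxU⟩).asIdeal.primeCompl (X.presheaf.stalk x) z).mp hgz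
  exact c.2 (hx.ge ((hPann _).mpr hc))

end Noetherian

end K471.MeroAffine
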