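import Groth.Agent.Divis.NormAmple
import Groth.Prelude.Def_Fitting

/-!
# Norms of degree `d` for finite morphisms and ampleness

* `surjective_of_norm`: a finite morphism with a norm is surjective.
* `basicOpen_norm`: `D(N(b)) = core (D(b))`.
* `exists_ample`: ample invertible modules descend along finite morphisms with a norm.
-/

set_option autoImplicit false
universe u

open CategoryTheory AlgebraicGeometry TopologicalSpace Opposite

namespace K471.NormAmple

open Groth.Agent.Fdesc.LocGen Groth.Agent.Flat2H.FamExt Groth.Agent.Flat2H.FamDict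
open Groth.Agent.Divis.AmpleAvoid Groth.Agent.Divis.NormSheaf
open Groth.Agent.Divis.NormAmple

variable {X Y : Scheme.{u}} {π : X ⟶ Y} {d : ℕ} (N : Nrm.NormOfDegree π d)

theorem ores_norm {U V : Y.Opens} (h : V ≤ U) (s : Γ(X, π ⁻¹ᵁ U)) :
    ores h (N.norm U s) = N.norm V (ores (V := π ⁻¹ᵁ V) (fun _ hx ↦ h hx) s) :=
  N.norm_res (homOfLE h) s

include N in
/-- A closed map with a norm is surjective. -/
theorem surjective_of_norm [IsFinite π] : Surjective π := by
  constructor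
  intro y
  by_contra hy
  have hcl : IsClosed (Set.range π) := π.isClosedMap.isClosed_range
  let U : Y.Opens := ⟨(Set.range π)ᶜ, hcl.isOpen_compl⟩
  have hyU : y ∈ U := hy
  have hempty : π ⁻¹ᵁ U = ⊥ := by
    ext x
    simp only [Opens.coe_bot, Set.mem_empty_iff_false, iff_false]
    intro hx
    exact hx ⟨x, rfl⟩
  have hsub : Subsingleton Γ(X, π ⁻¹ᵁ U) := by
    rw [hempty]
    infer_instance
  have h1 : (1 : Γ(Y, U)) = 0 := by
    have h2 := N.norm_app U 0
    rw [zero_pow (by have := N.one_le; omega)] at h2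
    rw [← map_one (N.norm U), ← h2]
    exact congrArg _ (Subsingleton.elim _ _)
  have h3 := congrArg (Y.presheaf.germ U y hyU) h1
  rw [map_one, map_zero] at h3
  exact one_ne_zero h3

/-- The nonvanishing locus of the norm. -/
theorem basicOpen_norm [IsFinite π] (V : Y.Opens) (b : Γ(X, π ⁻¹ᵁ V)) :
    Y.basicOpen (N.norm V b) = core π (X.basicOpen b) := by
  have : Surjective π := surjective_of_norm N
  apply le_antisymm
  · intro y hy
    have hyV : y ∈ V := Y.basicOpen_le _ hy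
    rw [mem_core]
    rintro x rfl
    by_contra hx
    have h1 : X.presheaf.germ (π ⁻¹ᵁ V) x hyV b ∈ IsLocalRing.maximalIdeal (X.presheaf.stalk x) := by
      rw [IsLocalRing.mem_maximalIdeal, mem_nonunits_iff]
      exact fun h => hx ((X.mem_basicOpen b x hyV).mpr h)
    have h2 := N.norm_mem V b x hyV h1
    rw [IsLocalRing.mem_maximalIdeal, mem_nonunits_iff] at h2
    exact h2 ((Y.mem_basicOpen _ _ hyV).mp hy)
  · intro y hy
    have hyV : y ∈ V := core_le π (X.basicOpen_le b) hy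
    let V' : Y.Opens := V ⊓ core π (X.basicOpen b)
    have hle : V' ≤ V := inf_le_left
    have h1 : IsUnit (ores (V := π ⁻¹ᵁ V') (fun _ hx ↦ hle hx) b) :=
      isUnit_res_basicOpen b _ (fun x hx ↦ preimage_core_le π _ hx.2)
    have h2 := h1.map (N.norm V')
    rw [← ores_norm] at h2
    exact le_basicOpen_of_isUnit _ hle h2 ⟨hyV, hy⟩

theorem isFam_norm {ι : Type*} {V : ι → Y.Opens}
    {g : ∀ i j, Γ(X, π ⁻¹ᵁ V i ⊓ π ⁻¹ᵁ V j)} {b : ∀ j, Γ(X, π ⁻¹ᵁ V j)}
    (hb : IsFam (fun i ↦ π ⁻¹ᵁ V i) g b) :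
    IsFam V (fun i j ↦ N.norm (V i ⊓ V j) (g i j)) (fun j ↦ N.norm (V j) (b j)) := by
  intro i j
  rw [ores_norm, ores_norm, ← map_mul]
  exact congrArg _ (hb i j)

theorem locus_norm [IsFinite π] {ι : Type*} {V : ι → Y.Opens} (hV : ∀ y, ∃ i, y ∈ V i)
    {g : ∀ i j, Γ(X, π ⁻¹ᵁ V i ⊓ π ⁻¹ᵁ V j)} (hg : ∀ i j, IsUnit (g i j)) {b : ∀ j, Γ(X, π ⁻¹ᵁ V j)}
    (hb : IsFam (fun i ↦ π ⁻¹ᵁ V i) g b) :
    locus V (fun j ↦ N.norm (V j) (b j)) = core π (locus (fun i ↦ π ⁻¹ᵁ V i) b) := by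
  have hg' : ∀ i j, IsUnit (N.norm (V i ⊓ V j) (g i j)) :=
    fun i j ↦ (hg i j).map (N.norm (V i ⊓ V j))
  ext y
  obtain ⟨i, hi⟩ := hV y
  have h1 := mem_locus_iff (isFam_norm N hb) hg' hi
  change y ∈ locus V (fun j ↦ N.norm (V j) (b j)) ↔ y ∈ core π (locus (fun i ↦ π ⁻¹ᵁ V i) b)
  rw [h1, basicOpen_norm, mem_core, mem_core]
  refine forall_congr' fun x ↦ imp_congr_right fun hx ↦ ?_
  have hxi : x ∈ π ⁻¹ᵁ V i := by
    change π x ∈ V i
    rwa [hx]
  exact (mem_locus_iff hb hg hxi).symm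

/-- The norm of a line bundle trivialized on the preimages of the members of a cover of `Y`. -/
theorem exists_norm {ι : Type u} {V : ι → Y.Opens} (hV : ∀ y, ∃ i, y ∈ V i)
    {L : X.Modules} {g : ∀ i j, Γ(X, π ⁻¹ᵁ V i ⊓ π ⁻¹ᵁ V j)} (hL : Trivs L (fun i ↦ π ⁻¹ᵁ V i) g) :
    ∃ M : Y.Modules, Trivs M V (fun i j ↦ N.norm (V i ⊓ V j) (g i j)) := by
  apply exists_trivs_of_cocycle V hV
  · intro i
    rw [hL.self i]
    exact map_one _
  · intro i j k
    rw [ores_norm, ores_norm, ores_norm, ← map_mul]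
    exact congrArg _ (hL.cocycle i j k (V := π ⁻¹ᵁ V i ⊓ (π ⁻¹ᵁ V j ⊓ π ⁻¹ᵁ V k)) inf_le_left
      (inf_le_right.trans inf_le_left) (inf_le_right.trans inf_le_right))

include N in
/-- Ample invertible modules descend along finite morphisms with a norm. -/
theorem exists_ample [IsFinite π] {L : X.Modules} (hL : CohB1.IsAmple L) :
    ∃ M : Y.Modules, CohB1.IsAmple M := by
  have : Surjective π := surjective_of_norm N
  obtain ⟨m', hN, m, V₀, g₀, hVa₀, hVne₀, hcov₀, htr₀⟩ := exists_trivs_preimage π hL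
  let V : ULift.{u} (Fin m) → Y.Opens := fun i ↦ V₀ i.down
  let g : ∀ i j, Γ(X, π ⁻¹ᵁ V i ⊓ π ⁻¹ᵁ V j) := fun i j ↦ g₀ i.down j.down
  have hcov : ∀ y, ∃ i, y ∈ V i := fun y ↦ by
    obtain ⟨i, hi⟩ := hcov₀ y
    exact ⟨⟨i⟩, hi⟩
  have htr : Trivs (CohB1.tensorPow L m') (fun i ↦ π ⁻¹ᵁ V i) g := by
    obtain ⟨-, e, he, he'⟩ := htr₀
    exact ⟨fun x ↦ hcov (π x), fun i ↦ e i.down, fun i ↦ he _, fun i j ↦ he' _ _⟩
  have hL' : CohB1.IsAmple (CohB1.tensorPow L m') := isAmple_tensorPow hL hN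
  have : QuasiSeparatedSpace X := quasiSeparatedSpace_of_isAmple hL
  have hcX : CompactSpace X := hL.2.1
  have hcY : CompactSpace Y := ⟨by
    rw [← π.surjective.range_eq, ← Set.image_univ]
    exact isCompact_univ.image π.continuous⟩
  obtain ⟨M, hM⟩ := exists_norm N hcov htr
  refine ⟨M, hM.isAmple_iff.2 ⟨hcY, fun y ↦ ?_⟩⟩
  obtain ⟨i, hi⟩ := hcov y
  obtain ⟨n, b, hb, hyb, hbi⟩ := exists_fam_finite htr (fun i ↦ (hVa₀ i.down).preimage π) hL' _
    (π.finite_preimage_singleton y) (π ⁻¹ᵁ V i) (fun x hx ↦ by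
      change π x ∈ V i
      rwa [show π x = y from hx])
  have hgu : ∀ i j, IsUnit (g i j ^ (n + 1)) := fun i j ↦ (htr.isUnit i j).pow _
  have h1 := isFam_norm N hb
  have h2 := locus_norm N hcov hgu hb
  have hy1 : y ∈ locus V (fun j ↦ N.norm (V j) (b j)) := by
    rw [h2, mem_core]
    exact fun x hx ↦ hyb x hx
  have hle : locus V (fun j ↦ N.norm (V j) (b j)) ≤ V i := by
    rw [h2]
    exact core_le π hbi
  have heq : locus V (fun j ↦ N.norm (V j) (b j)) = Y.basicOpen (N.norm (V i) (b i)) := by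
    apply le_antisymm
    · intro z hz
      exact (mem_locus_iff h1 (fun i j ↦ (hgu i j).map (N.norm (V i ⊓ V j))) (hle hz)).1 hz
    · exact basicOpen_le_locus (W := V) (fun j ↦ N.norm (V j) (b j)) i
  refine ⟨n, fun j ↦ N.norm (V j) (b j), IsFam.congr h1 (fun i j ↦ ?_), hy1, ?_⟩
  · exact map_pow _ _ _
  · change IsAffineOpen (locus V (fun j ↦ N.norm (V j) (b j)))
    rw [heq]
    exact (hVa₀ i.down).basicOpen _

end K471.NormAmple
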